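import Cfsg.Agent.SympType.LinearDouble
import Cfsg.Agent.SympType.Coords
import Cfsg.Agent.SLFour.SymplecticType
import Cfsg.Agent.OrthMono.Six.Maximal
import Cfsg.Agent.MaxSub.Transvection

/-!
# The normaliser of a symplectic type group is maximal in `SL₈(p)`, `p ≡ 1 (mod 4)`
-/

set_option autoImplicit false

namespace CfsgLib.SympType

open Matrix Cfsg.Geo

local notation:max "mat" => Units.val

/-- The small group has a quarter of the order. -/
theorem Split.card_eq {ι : Type} [Fintype ι] [DecidableEq ι] [Nonempty ι] {F : Type*} [Field F] [Finite F]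
    {R : Subgroup (GL (ι ⊕ ι) F)} (S : Split R) : Nat.card R = 4 * Nat.card (small R) := by
  classical
  let sgn : Bool → GL ι F → GL ι F := fun e a => cond e (-a) a
  let pw : Bool → GL (ι ⊕ ι) F := fun f => cond f sw 1
  have hmem : ∀ (a : small R) (e f : Bool), bd ((a : GL ι F), sgn e a) * pw f ∈ R := fun a e f => by
    refine R.mul_mem ?_ ?_
    · cases e
      exacts [mem_small.1 a.2, S.sign_mem a.2]
    · cases f
      exacts [R.one_mem, S.sw_mem]
  have hoff : ∀ a b c d : GL ι F, bd (a, b) ≠ bd (c, d) * sw := fun a b c d h => by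
    have e := congrArg (fun g : GL (ι ⊕ ι) F => (mat g).toBlocks₁₁) h
    simp only [Units.val_mul, bd_val, sw, fromBlocks_multiply, toBlocks_fromBlocks₁₁, Matrix.mul_zero,
      Matrix.zero_mul, add_zero] at e
    exact a.ne_zero e
  let f : small R × Bool × Bool → R := fun p => ⟨_, hmem p.1 p.2.1 p.2.2⟩
  have hf : Function.Bijective f := by
    refine ⟨fun p q h => ?_, fun x => ?_⟩
    · obtain ⟨a, e, g⟩ := p
      obtain ⟨b, e', g'⟩ := q
      have h' : bd ((a : GL ι F), sgn e a) * pw g = bd ((b : GL ι F), sgn e' b) * pw g' := congrArg Subtype.val h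
      have hg : g = g' := by
        cases g <;> cases g' <;> simp only [pw, cond_true, cond_false, mul_one] at h'
        · rfl
        · exact absurd h' (hoff _ _ _ _)
        · exact absurd h'.symm (hoff _ _ _ _)
        · rfl
      subst hg
      rw [mul_left_inj, bd_inj] at h'
      obtain ⟨h1, h2⟩ := h'
      have hab : a = b := Subtype.ext h1
      subst hab
      cases e <;> cases e' <;> simp only [sgn, cond_true, cond_false] at h2
      · rfl
      · exact absurd h2 (ne_neg S.data.two _)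
      · exact absurd h2.symm (ne_neg S.data.two _)
      · rfl
    · obtain ⟨x, hx⟩ := x
      obtain ⟨a, ha, rfl | rfl | rfl | rfl⟩ := S.decompose hx
      · exact ⟨(⟨a, ha⟩, false, false), Subtype.ext (by simp [f, sgn, pw])⟩
      · exact ⟨(⟨a, ha⟩, true, false), Subtype.ext (by simp [f, sgn, pw])⟩
      · exact ⟨(⟨a, ha⟩, false, true), Subtype.ext (by simp [f, sgn, pw])⟩
      · exact ⟨(⟨a, ha⟩, true, true), Subtype.ext (by simp [f, sgn, pw])⟩
  rw [← Nat.card_eq_of_bijective f hf, Nat.card_prod, Nat.card_prod, Nat.card_eq_fintype_card (α := Bool),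
    Fintype.card_bool]
  ring

/-- Clause 8 of the maximal subgroups of `SL₈(q)`. -/
theorem isMaximalIn_sl_eight {F : Type*} [Field F] [Fintype F]
    (hq : ∃ p : ℕ, p.Prime ∧ Fintype.card F = p ∧ (p % 4 = 1)) (R : Subgroup (GL (Fin 8) F))
    (hR : IsLinearSymplecticTypeData 2 R) :
    IsMaximalIn (specialLinear (Fin 8) F) (subgroupNormalizer R ⊓ specialLinear (Fin 8) F) := by
  classical
  obtain ⟨p, hp, hcard, hp4⟩ := hq
  have h2 : (2 : F) ≠ 0 := CfsgLib.MaxSub.two_ne_zero_of_odd (by rw [hcard]; exact Nat.odd_iff.2 (by omega))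
  obtain ⟨_, _, -, -, ⟨h, -⟩ | ⟨-, -, hc4, -, m, hm⟩ | ⟨-, -, h, -⟩⟩ := hR.field
  · exact absurd h (by decide)
  swap
  · simp at h
  have D := Data.of_symplecticType h2 hR.symplecticType hR.absIrred
  -- the central square root of `-1`
  obtain ⟨j, hj, hjs, hj2⟩ : ∃ j ∈ R, j ∈ scalars (Fin 8) F ∧ j * j = -1 := by
    by_contra h
    push Not at h
    have hsub : (fun z : Subgroup.center R => ((z : R) : GL (Fin 8) F)) '' Set.univ ⊆
        {1, -1} := by
      rintro _ ⟨z, -, rfl⟩
      have hzs : ((z : R) : GL (Fin 8) F) ∈ scalars (Fin 8) F :=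
        D.scalar_of_comm fun y hy => (congrArg Subtype.val (Subgroup.mem_center_iff.1 z.2 ⟨y, hy⟩)).symm
      obtain ⟨c, hc⟩ := (mem_scalars_iff _).1 hzs
      rcases D.sq _ (z : R).2 with e | e
      · have hc2 : (c : F) * c = 1 := by
          have := congrArg (fun u : GL (Fin 8) F => mat u 0 0) e
          simpa [hc, smul_smul] using this
        rcases mul_self_eq_one_iff.1 hc2 with h' | h'
        · exact Or.inl (Units.ext (by rw [hc, h']; simp))
        · exact Or.inr (Units.ext (by rw [hc, h']; simp))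
      · exact absurd e (h _ (z : R).2 hzs)
    have hle := Set.ncard_le_ncard hsub (Set.toFinite _)
    rw [Set.ncard_image_of_injective _ (fun a b h => Subtype.ext (Subtype.ext h)), Set.ncard_univ, hc4] at hle
    have := hle.trans (Set.ncard_insert_le _ _)
    simp at this
  -- two anticommuting involutions
  obtain ⟨x, hx, hxns⟩ : ∃ x ∈ R, x ∉ scalars (Fin 8) F := by
    by_contra h
    push Not at h
    have hle : Submodule.span F (matrixSet R) ≤ Submodule.span F {(1 : Matrix (Fin 8) (Fin 8) F)} := by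
      rw [Submodule.span_le]
      rintro _ ⟨g, hg, rfl⟩
      obtain ⟨c, hc⟩ := (mem_scalars_iff g).1 (h g hg)
      show mat g ∈ _
      rw [hc]
      exact Submodule.smul_mem _ _ (Submodule.mem_span_singleton_self _)
    rw [CfsgLib.Aschbacher.span_eq_top_of_absIrred D.abs, top_le_iff] at hle
    have h1 : Module.finrank F ↥(Submodule.span F {(1 : Matrix (Fin 8) (Fin 8) F)}) = 1 :=
      finrank_span_singleton one_ne_zero
    rw [hle, finrank_top, Module.finrank_matrix, Module.finrank_self, mul_one] at h1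
    simp at h1
  obtain ⟨y, hy, hxy⟩ := D.exists_anti hx hxns
  obtain ⟨-, a, ha, hxR, hx2⟩ := D.rootify hj hjs hj2 hx
  obtain ⟨-, b, hb, hyR, hy2⟩ := D.rootify hj hjs hj2 hy
  have hxy' : a * x * (b * y) = -(b * y * (a * x)) := by
    rw [show a * x * (b * y) = a * (x * b) * y by group, ← scalar_comm hb x, show b * y * (a * x) = b * (y * a) * x by
      group, ← scalar_comm ha y, show a * (b * x) * y = a * b * (x * y) by group, hxy, scalar_comm ha b, mul_neg]
    group
  obtain ⟨M, N, hMN, hNM, hsg, hsw⟩ := exists_coords h2 (finSumFinEquiv (m := 4) (n := 4)).symm hx2 hy2 hxy'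
  obtain ⟨R₂, hR₂⟩ : ∃ R₂ : Subgroup (GL (Fin 4 ⊕ Fin 4) F),
      R₂ = R.comap (coordEquiv M N hMN hNM).toMonoidHom := ⟨_, rfl⟩
  have S : Split R₂ := by
    subst hR₂
    refine ⟨D.comap, ?_, ?_⟩
    · show coordEquiv M N hMN hNM sg ∈ R
      rw [hsg]; exact hxR
    · show coordEquiv M N hMN hNM sw ∈ R
      rw [hsw]; exact hyR
  obtain ⟨j₀, hj₀, hj₀s, hj₀2⟩ : ∃ j₀ ∈ small R₂, j₀ ∈ scalars (Fin 4) F ∧ j₀ * j₀ = -1 := by
    obtain ⟨c, hc⟩ := (mem_scalars_iff j).1 hjs
    obtain ⟨j₀, hj₀⟩ : ∃ j₀ : GL (Fin 4) F, mat j₀ = (c : F) • (1 : Matrix (Fin 4) (Fin 4) F) :=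
      ⟨Units.map (Matrix.scalar (Fin 4) : F →+* Matrix (Fin 4) (Fin 4) F).toMonoidHom c,
        by simp [Matrix.smul_one_eq_diagonal]⟩
    refine ⟨j₀, ?_, (mem_scalars_iff _).2 ⟨c, hj₀⟩, Units.ext ?_⟩
    · rw [mem_small, hR₂, Subgroup.mem_comap]
      show coordEquiv M N hMN hNM (bd (j₀, j₀)) ∈ R
      rw [show coordEquiv M N hMN hNM (bd (j₀, j₀)) = j from Units.ext (by
        rw [coordEquiv_val, bd_val, hj₀, hc, ← smul_zero (A := Matrix (Fin 4) (Fin 4) F) (c : F), ← fromBlocks_smul,
          fromBlocks_one, Matrix.mul_smul, Matrix.smul_mul, Matrix.mul_one, hMN])]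
      exact hj
    · have e := congrArg (fun u : GL (Fin 8) F => mat u 0 0) hj2
      simp [hc, smul_smul] at e
      rw [Units.val_mul, hj₀, Matrix.smul_mul, Matrix.one_mul, smul_smul, e, Units.val_neg, Units.val_one, neg_smul,
        one_smul]
  obtain ⟨hsymp, hcen⟩ := S.small_data.symplecticType (by simp) hj₀ hj₀s hj₀2
  have hcardR : Nat.card R = 4 * Nat.card (small R₂) := by
    rw [← S.card_eq, hR₂]
    exact (Nat.card_congr ((coordEquiv M N hMN hNM).toEquiv.subtypeEquiv fun g => Iff.rfl)).symm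
  have hpow : Nat.card (small R₂) = 2 ^ (2 * m) := by
    have h := hcardR.symm.trans hm
    rw [pow_add] at h
    omega
  have hm1 : 1 ≤ m := by
    rcases Nat.eq_zero_or_pos m with h0 | h0
    · exfalso
      have hle := Nat.le_of_dvd Nat.card_pos (Subgroup.card_subgroup_dvd_card (Subgroup.center (small R₂)))
      rw [hcen, hpow, h0] at hle
      simp at hle
    · exact h0
  have T : CfsgLib.SLFour.FourData (small R₂) :=
    ⟨h2, hsymp, S.small_data.abs, hcen, m - 1, by rw [hpow]; congr 1; omega⟩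
  have L : LinData R₂ :=
    { split := S
      four := ⟨j₀, hj₀, hj₀s, hj₀2⟩
      dvd := by simp
      small_le := T.le_special }
  obtain ⟨ψ, Dec, hDec, hrange, hiff⟩ := CfsgLib.SLFour.exists_frame_of_symplecticType T
  have base := CfsgLib.SLFour.isMaximalIn_of_hom ψ hrange hiff
    (CfsgLib.OrthMono.isMaximalIn_frame_six hDec (by simp) (by simp) (by rwa [hcard]) h2)
  refine isMaximalIn_of_comap (coordEquiv M N hMN hNM) ?_
  rw [Subgroup.comap_inf, normalizer_comap, specialLinear_comap, ← hR₂]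
  exact L.isMaximalIn base

end CfsgLib.SympType
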